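import Mathlib.RingTheory.Smooth.Locus
import Mathlib.RingTheory.GradedAlgebra.Homogeneous.Ideal
import Mathlib.RingTheory.Ideal.Cotangent
import Mathlib.RingTheory.Polynomial.Basic
import Mathlib.RingTheory.Nakayama
import Mathlib.Data.Finsupp.WellFounded
import Mathlib.LinearAlgebra.Dimension.Free

/-!
# Graded algebras smooth along the vertex
-/

universe u

namespace GrothLib.GradedSmooth

open MvPolynomial

variable {A : Type u} [CommRing A] {ι : Type u}

lemma eq_zero_of_mul_eq_zero {σ : Type*} {u p : MvPolynomial σ A} (hu : constantCoeff u = 1) (h : u * p = 0) :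
    p = 0 := by
  classical
  ext d
  rw [coeff_zero]
  induction d using WellFoundedLT.induction with
  | ind d ih =>
    have h' := congrArg (coeff d) h
    rw [coeff_mul, coeff_zero, Finset.sum_eq_single (0, d)] at h'
    · rwa [show coeff 0 u = 1 from hu, one_mul] at h'
    · rintro ⟨i, j⟩ hij hne
      rw [Finset.HasAntidiagonal.mem_antidiagonal] at hij
      have hle : j ≤ d := hij ▸ le_add_self
      rcases hle.lt_or_eq with hlt | rfl
      · simp only [ih j hlt, mul_zero]
      · exact absurd (Prod.ext (add_eq_right.1 hij) rfl : (i, j) = (0, j)) hne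
    · intro hn
      exact absurd (Finset.HasAntidiagonal.mem_antidiagonal.2 (zero_add d)) hn

variable {P B : Type u} [CommRing P] [CommRing B] [Algebra A P] [Algebra A B]

/-- A surjection onto a smooth algebra whose kernel is in `m²` has no kernel near `V(m)`. -/
lemma exists_mul_eq_zero_of_isSmoothAt [IsNoetherianRing P] (φ : P →ₐ[A] B) (hφ : Function.Surjective φ)
    (m : Ideal P) (hK : RingHom.ker φ ≤ m ^ 2) (q : Ideal P) [q.IsPrime] (hm : m ≤ q)
    (hsm : ∀ (Q : Ideal B) [Q.IsPrime], Q = q.map φ → Algebra.IsSmoothAt A Q)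
    {p : P} (hp : p ∈ RingHom.ker φ) : ∃ u ∉ q, u * p = 0 := by
  have hKq : RingHom.ker φ ≤ q := hK.trans ((Ideal.pow_le_self two_ne_zero).trans hm)
  haveI hQ : (q.map φ).IsPrime := Ideal.map_isPrime_of_surjective hφ hKq
  haveI := hsm (q.map φ) rfl
  have hcomap : ∀ x, φ x ∈ q.map φ → x ∈ q := fun x hx => by
    obtain ⟨y, hy, e⟩ := (Ideal.mem_map_iff_of_surjective φ hφ).1 hx
    have : x - y ∈ q := hKq (show φ (x - y) = 0 by rw [map_sub, e, sub_self])
    simpa using q.add_mem this hy
  let L := Localization.AtPrime q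
  let B' := Localization.AtPrime (q.map φ)
  let f : P →ₐ[A] B' := (IsScalarTower.toAlgHom A B B').comp φ
  have hf : ∀ y : q.primeCompl, IsUnit (f y) := fun y =>
    IsLocalization.map_units (M := (q.map φ).primeCompl) B' ⟨φ y, fun h => y.2 (hcomap _ h)⟩
  let ψ : L →ₐ[A] B' := IsLocalization.liftAlgHom hf
  have hψ : ∀ x, ψ (algebraMap P L x) = algebraMap B B' (φ x) := fun x => IsLocalization.lift_eq _ x
  set Kl : Ideal L := (RingHom.ker φ).map (algebraMap P L)
  have hψs : Function.Surjective ψ := fun z => by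
    obtain ⟨⟨b, s⟩, hz⟩ := IsLocalization.surj (q.map φ).primeCompl z
    obtain ⟨x, rfl⟩ := hφ b
    obtain ⟨t, ht⟩ := hφ s
    have htq : t ∈ q.primeCompl := fun h => s.2 (ht ▸ Ideal.mem_map_of_mem φ h)
    refine ⟨IsLocalization.mk' L x (⟨t, htq⟩ : q.primeCompl), ?_⟩
    refine (IsLocalization.map_units B' s).mul_right_cancel (Eq.trans ?_ hz.symm)
    rw [← ht, ← hψ t, ← map_mul, IsLocalization.mk'_spec, hψ]
  have hker : RingHom.ker ψ = Kl := by
    refine le_antisymm (fun z hz => ?_) (Ideal.map_le_iff_le_comap.2 fun x hx => ?_)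
    · obtain ⟨x, t, rfl⟩ := IsLocalization.exists_mk'_eq q.primeCompl z
      have h0 : algebraMap B B' (φ x) = 0 := by
        rw [← hψ, ← IsLocalization.mk'_spec L x t, map_mul, show ψ (IsLocalization.mk' L x t) = 0 from hz,
          zero_mul]
      obtain ⟨s, hs⟩ := (IsLocalization.map_eq_zero_iff (q.map φ).primeCompl B' _).1 h0
      obtain ⟨w, hw⟩ := hφ s
      have hwq : w ∈ q.primeCompl := fun h => s.2 (hw ▸ Ideal.mem_map_of_mem φ h)
      have hmem : algebraMap P L (w * x) ∈ Kl :=
        Ideal.mem_map_of_mem _ (show φ (w * x) = 0 by rw [map_mul, hw, hs])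
      rw [map_mul, Ideal.unit_mul_mem_iff_mem _ (IsLocalization.map_units L ⟨w, hwq⟩)] at hmem
      rw [IsLocalization.mk'_eq_mul_mk'_one]
      exact Kl.mul_mem_right _ hmem
    · change ψ (algebraMap P L x) = 0
      rw [hψ, show φ x = 0 from hx, map_zero]
  let C := L ⧸ Kl ^ 2
  let π : C →ₐ[A] B' := Ideal.Quotient.liftₐ (Kl ^ 2) ψ fun z hz =>
    (hker.ge (Ideal.pow_le_self two_ne_zero hz) :)
  have hπs : Function.Surjective π := fun z => by
    obtain ⟨w, rfl⟩ := hψs z
    exact ⟨Ideal.Quotient.mk _ w, rfl⟩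
  set Kb : Ideal C := Kl.map (Ideal.Quotient.mk (Kl ^ 2))
  have hπk : RingHom.ker (π : C →+* B') = Kb := by
    refine le_antisymm (fun z hz => ?_) (Ideal.map_le_iff_le_comap.2 fun w hw => ?_)
    · obtain ⟨w, rfl⟩ := Ideal.Quotient.mk_surjective z
      exact Ideal.mem_map_of_mem _ (hker.le (show ψ w = 0 from hz))
    · exact (hker.ge hw : ψ w = 0)
  have hnil : IsNilpotent (RingHom.ker (π : C →+* B')) := ⟨2, by
    rw [hπk]; exact (Ideal.map_pow _ Kl 2).symm.trans (Ideal.map_quotient_self _)⟩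
  let σ := Algebra.FormallySmooth.liftOfSurjective (AlgHom.id A B') π hπs hnil
  let Φ : P →+* C := (Ideal.Quotient.mk (Kl ^ 2)).comp (algebraMap P L)
  let τ : P →+* C := (σ : B' →+* C).comp ((algebraMap B B').comp φ.toRingHom)
  have hδ : ∀ x, Φ x - τ x ∈ Kb := fun x => by
    rw [← hπk, RingHom.mem_ker, map_sub, sub_eq_zero]
    exact (hψ x).trans (Algebra.FormallySmooth.liftOfSurjective_apply (AlgHom.id A B') π hπs hnil (algebraMap B B' (φ x))).symm
  set qb : Ideal C := (IsLocalRing.maximalIdeal L).map (Ideal.Quotient.mk (Kl ^ 2))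
  have hKm : Kl ≤ IsLocalRing.maximalIdeal L := by
    rw [← Localization.AtPrime.map_eq_maximalIdeal]
    exact Ideal.map_mono hKq
  have hΦm : ∀ x ∈ m, Φ x ∈ qb := fun x hx => Ideal.mem_map_of_mem _ (by
    rw [← Localization.AtPrime.map_eq_maximalIdeal]
    exact Ideal.mem_map_of_mem _ (hm hx))
  have hτm : ∀ x ∈ m, τ x ∈ qb := fun x hx => by
    have := qb.sub_mem (hΦm x hx) (Ideal.map_mono hKm (hδ x))
    rwa [sub_sub_cancel] at this
  have hsq : ∀ x ∈ m ^ 2, Φ x - τ x ∈ qb * Kb := by
    intro x hx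
    rw [pow_two] at hx
    refine Submodule.mul_induction_on hx (fun a ha b hb => ?_) fun a b ha hb => ?_
    · have e : Φ (a * b) - τ (a * b) = Φ b * (Φ a - τ a) + τ a * (Φ b - τ b) := by
        rw [map_mul, map_mul]; ring
      rw [e]
      exact Ideal.add_mem _ (Ideal.mul_mem_mul (hΦm b hb) (hδ a)) (Ideal.mul_mem_mul (hτm a ha) (hδ b))
    · rw [map_add, map_add, add_sub_add_comm]
      exact Ideal.add_mem _ ha hb
  have hle : Kl ≤ IsLocalRing.maximalIdeal L * Kl := by
    refine Ideal.map_le_iff_le_comap.2 fun x hx => ?_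
    have hτ : τ x = 0 := by
      change σ (algebraMap B B' (φ x)) = 0
      rw [show φ x = 0 from hx, map_zero, map_zero]
    have h := hsq x (hK hx)
    rw [hτ, sub_zero, ← Ideal.map_mul] at h
    have h2 : algebraMap P L x ∈ ((IsLocalRing.maximalIdeal L * Kl).map (Ideal.Quotient.mk (Kl ^ 2))).comap
        (Ideal.Quotient.mk (Kl ^ 2)) := h
    rw [Ideal.comap_map_of_surjective' _ Ideal.Quotient.mk_surjective, Ideal.mk_ker, sup_eq_left.2] at h2
    · exact h2
    · rw [pow_two]
      exact Ideal.mul_mono_left hKm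
  haveI : IsNoetherianRing L := IsLocalization.isNoetherianRing q.primeCompl L inferInstance
  have hbot : Kl = ⊥ := Submodule.eq_bot_of_le_smul_of_le_jacobson_bot _ _ (IsNoetherian.noetherian Kl)
    hle (IsLocalRing.maximalIdeal_le_jacobson _)
  have hp0 : algebraMap P L p = 0 := by
    have h := Ideal.mem_map_of_mem (algebraMap P L) hp
    change algebraMap P L p ∈ Kl at h
    rwa [hbot, Ideal.mem_bot] at h
  obtain ⟨u, hu⟩ := (IsLocalization.map_eq_zero_iff q.primeCompl L p).1 hp0
  exact ⟨u, u.2, hu⟩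

end GrothLib.GradedSmooth
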